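import Groth.Agent.AGFObs.Additive
import Groth.Agent.AGFObs.Coact
import Groth.Agent.AGFObs.Mods
import Groth.Agent.S7975
import Groth.Agent.S7987

/-!
A connected group without subtori fixes a non-zero vector in every non-zero stable subspace of a rational module.
-/

set_option autoImplicit false

universe u

noncomputable section

open CategoryTheory MonoidalCategory CartesianMonoidalCategory MonObj GrpObj AlgebraicGeometry Limits
open scoped TensorProduct
open Groth.Agent.AGFPoints.Basic Groth.Agent.AGFLang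

namespace Groth.Agent.AGFFix20

open Groth.Agent.AGFObs Groth.Agent.AGFObs.Additive
open Groth.Agent.Borel50 Groth.Agent.Borel50.Pts Groth.Agent.Borel50.Lin Groth.Agent.Borel50.Density WithConv

attribute [local instance] ptTop

variable {k : Type u} [Field k] [IsAlgClosed k] {U : Over (Spec (CommRingCat.of k))} [GrpObj U] [IsAffine U.left]
  [Smooth U.hom] [ConnectedSpace U.left]

theorem act_conv {A : Type u} [CommRing A] [HopfAlgebra k A] {V : Type u} [AddCommGroup V] [Module k V]
    [HopfRep.Comod k A V] (p q : WithConv (A →ₐ[k] k)) :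
    HopfRep.Comod.act k A V (p * q).ofConv = HopfRep.Comod.act k A V p.ofConv ∘ₗ HopfRep.Comod.act k A V q.ofConv := by
  refine LinearMap.ext fun v => ?_
  show Comod.contract _ v = Comod.contract _ (Comod.contract _ v)
  rw [Comod.contract_contract]
  congr 2

theorem counit_act {A : Type u} [CommRing A] [HopfAlgebra k A] (p : A →ₐ[k] k) (a : A) :
    Coalgebra.counit (R := k) (HopfRep.Comod.act k A A p a) = p a := by
  show Coalgebra.counit (R := k) (Comod.contract p.toLinearMap a) = p a
  rw [Comod.contract_apply, ← Comod.slice_rTensor]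
  show Comod.slice _ (((Coalgebra.counit (R := k) (A := A)).rTensor A) (Coalgebra.comul a)) = _
  rw [Coalgebra.rTensor_counit_comul, Comod.slice_tmul, smul_eq_mul, _root_.mul_one]
  rfl

theorem apply_act {A : Type u} [CommRing A] [HopfAlgebra k A] (p q : WithConv (A →ₐ[k] k)) (a : A) :
    p.ofConv (HopfRep.Comod.act k A A q.ofConv a) = (p * q).ofConv a := by
  rw [← counit_act (k := k) p.ofConv, ← counit_act (k := k) (p * q).ofConv, act_conv]
  rfl

/-- translations of functions are locally unipotent -/
theorem exists_pow_Rt (hU : Red.HasNoSubtorus k U) (z : Pts U) (f : Coord U) :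
    ∃ N : ℕ, (((Rt z).toLinearMap - 1 : Module.End k (Coord U)) ^ N) f = 0 := by
  classical
  obtain ⟨A, hA, e, he⟩ := AffGrp.Bridge.exists_iso (R := CommRingCat.of k) U
  let S := (Spec A).asOver (Spec (CommRingCat.of k))
  have : IsIso e.hom.left := inferInstanceAs (IsIso ((Over.forget _).map e.hom))
  have : AlgebraicGeometry.IsReduced (Spec A) := by
    have := GrpScheme.HomFlat.isReduced_of_smooth U.hom
    let φ : Spec A ⟶ U.left := e.hom.left
    have : IsIso φ := ‹IsIso e.hom.left›
    exact isReduced_of_isOpenImmersion φ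
  have : _root_.IsReduced A := (affine_isReduced_iff A).1 inferInstance
  have : Algebra.FiniteType k A := by
    have h : LocallyOfFiniteType S.hom := by rw [← Over.w e.hom]; infer_instance
    have h' : LocallyOfFiniteType (Spec.map (CommRingCat.ofHom (algebraMap k A))) := h
    rw [HasRingHomProperty.Spec_iff (P := @LocallyOfFiniteType)] at h'
    exact RingHom.finiteType_algebraMap.1 h'
  let ee : (Spec (CommRingCat.of k)).asOver (Spec (CommRingCat.of k)) ≅ 𝟙_ (Over (Spec (CommRingCat.of k))) :=
    Over.isoMk (Iso.refl _) (by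
      show 𝟙 _ ≫ 𝟙 _ = Spec.map (CommRingCat.ofHom (algebraMap k k))
      simp)
  let φ : Pt U ≃* WithConv (A →ₐ[k] k) :=
    { toFun := fun g => Spec.mapMulEquiv.symm (ee.hom ≫ g ≫ e.inv)
      invFun := fun w => ee.inv ≫ Spec.mapMulEquiv w ≫ e.hom
      left_inv := fun g => by simp
      right_inv := fun w => by
        show Spec.mapMulEquiv.symm (ee.hom ≫ (ee.inv ≫ Spec.mapMulEquiv w ≫ e.hom) ≫ e.inv) = w
        simp
      map_mul' := fun g h => by
        rw [← map_mul, ← MonObj.comp_mul, ← MonObj.mul_comp] }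
  let e0 : VecGrp.pt k k ≅ 𝟙_ (Over (Spec (CommRingCat.of k))) :=
    Over.isoMk (Iso.refl _) (by
      show 𝟙 _ ≫ 𝟙 _ = Spec.map (CommRingCat.ofHom (algebraMap k k))
      simp)
  let ψ : Pts U ≃* Pt U :=
    { toFun := fun g => e0.inv ≫ g
      invFun := fun g => e0.hom ≫ g
      left_inv := fun g => by simp
      right_inv := fun g => by simp
      map_mul' := fun g h => MonObj.comp_mul _ _ _ }
  have hunip : HopfRep.IsUnipotent k A := (Groth.Agent.S5423.result k A).2 fun g V _ _ _ _ => by
    by_contra hg
    obtain ⟨ℓ, hℓ, hℓk, f, hf⟩ := LieUnip.exists_mu_of_not_nilpotent g V hg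
    have : Fact ℓ.Prime := ⟨hℓ⟩
    haveI : NeZero ℓ := ⟨hℓ.ne_zero⟩
    haveI : NeZero (ℓ : k) := ⟨hℓk⟩
    obtain ⟨ζ, hζ⟩ := HasEnoughRootsOfUnity.exists_primitiveRoot k ℓ
    let c : Multiplicative (ZMod ℓ) →* k := (AddChar.zmodChar ℓ hζ.pow_eq_one).toMonoidHom
    let χ : MonoidAlgebra k (Multiplicative (ZMod ℓ)) →ₐ[k] k := MonoidAlgebra.lift k k _ c
    let w : WithConv (A →ₐ[k] k) := toConv (χ.comp (f : A →ₐ[k] MonoidAlgebra k (Multiplicative (ZMod ℓ))))
    have hpow : ∀ m : ℕ, w ^ m = toConv ((MonoidAlgebra.lift k k _ (c ^ m)).comp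
        (f : A →ₐ[k] MonoidAlgebra k (Multiplicative (ZMod ℓ)))) := by
      intro m
      induction m with
      | zero =>
        rw [pow_zero, pow_zero]
        refine WithConv.ofConv_injective (AlgHom.ext fun a => ?_)
        show Bialgebra.counitAlgHom k A a = MonoidAlgebra.lift k k _ (1 : Multiplicative (ZMod ℓ) →* k) (f a)
        rw [Bialgebra.counitAlgHom_apply, ← CoalgHomClass.counit_comp_apply f a]
        generalize f a = z
        induction z using MonoidAlgebra.induction_linear with
        | zero => simp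
        | add x y hx hy => simp only [map_add, hx, hy]
        | single m r => simp
      | succ m ih =>
        rw [pow_succ, ih, pow_succ]
        refine WithConv.ofConv_injective ?_
        have hd := AlgHom.convMul_comp_bialgHom_distrib (toConv (MonoidAlgebra.lift k k _ (c ^ m)))
          (toConv χ) f
        refine (show _ = _ from hd.symm).trans ?_
        refine congrArg (fun t : MonoidAlgebra k (Multiplicative (ZMod ℓ)) →ₐ[k] k => t.comp _) ?_
        apply MonoidAlgebra.algHom_ext
        case single_one_left => exact Subsingleton.elim _ _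
        intro x
        rw [AlgHom.convMul_apply]
        simp [χ]
    have hw : w ^ ℓ = 1 := by
      rw [hpow, ← pow_zero w, hpow]
      congr 3
      refine MonoidHom.ext fun x => ?_
      rw [MonoidHom.pow_apply, pow_zero, MonoidHom.one_apply]
      obtain ⟨x, rfl⟩ := Multiplicative.ofAdd.surjective x
      show (AddChar.zmodChar ℓ hζ.pow_eq_one x) ^ ℓ = 1
      rw [AddChar.zmodChar_apply, ← pow_mul, mul_comm, pow_mul, hζ.pow_eq_one, one_pow]
    have h1 : φ.symm w = 1 := no_torsion hU hℓk (by rw [← map_pow, hw, map_one])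
    have hw1 : w = 1 := by rw [← φ.apply_symm_apply w, h1, map_one]
    rw [← pow_one w, ← pow_zero w, hpow, hpow] at hw1
    obtain ⟨a, ha⟩ := hf (MonoidAlgebra.single (Multiplicative.ofAdd (1 : ZMod ℓ)) 1)
    have := DFunLike.congr_fun (congrArg WithConv.ofConv hw1) a
    simp only [AlgHom.comp_apply] at this
    rw [show (f : A →ₐ[k] MonoidAlgebra k (Multiplicative (ZMod ℓ))) a = f a from rfl, ha] at this
    simp only [MonoidAlgebra.lift_single, one_smul, pow_one, pow_zero, MonoidHom.one_apply] at this
    refine hζ.ne_one hℓ.one_lt ?_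
    have e1 : c (Multiplicative.ofAdd (1 : ZMod ℓ)) = ζ := by
      show AddChar.zmodChar ℓ hζ.pow_eq_one 1 = ζ
      rw [AddChar.zmodChar_apply, ZMod.val_one, pow_one]
    rw [← e1, this]
  let mh : Pts U ≃* WithConv (A →ₐ[k] k) := ψ.trans φ
  have hval : ∀ (w : Pts U) (x : A), valHom w (e.inv.left.appTop (Comod.QuotAffine.glob x)) = (mh w).ofConv x := fun z x => by
    let w := mh z
    have hz : (Spec.mapMulEquiv w).left = (z ≫ e.inv).left := by
      show (Spec.mapMulEquiv (Spec.mapMulEquiv.symm (ee.hom ≫ (e0.inv ≫ z) ≫ e.inv))).left = _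
      rw [MulEquiv.apply_symm_apply]
      simp [ee, e0]
      exact Category.id_comp _
    show (Scheme.ΓSpecIso (CommRingCat.of k)).hom (z.left.appTop (e.inv.left.appTop (Comod.QuotAffine.glob x))) = _
    rw [show z.left.appTop (e.inv.left.appTop (Comod.QuotAffine.glob x)) = (z ≫ e.inv).left.appTop (Comod.QuotAffine.glob x)
      from rfl, ← hz]
    exact (congrArg (Scheme.ΓSpecIso (CommRingCat.of k)).hom (Comod.QuotAffine.appTop_glob w.ofConv.toRingHom x)).trans
      (Iso.inv_hom_id_apply (Scheme.ΓSpecIso (CommRingCat.of k)) _)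
  let θ : Coord U → A := fun f => (Scheme.ΓSpecIso A).hom (e.hom.left.appTop f)
  have hglob : ∀ f : Coord U, (e.inv.left.appTop (Comod.QuotAffine.glob (θ f)) : Coord U) = f := fun f => by
    show e.inv.left.appTop ((Scheme.ΓSpecIso A).inv ((Scheme.ΓSpecIso A).hom (e.hom.left.appTop f))) = f
    refine (congrArg e.inv.left.appTop (Iso.hom_inv_id_apply (Scheme.ΓSpecIso A) (e.hom.left.appTop f))).trans ?_
    have h : (e.inv ≫ e.hom).left.appTop = 𝟙 _ := by rw [e.inv_hom_id]; rfl
    exact congr($h f)
  have hθ : ∀ (w : Pts U) (f : Coord U), valHom w f = (mh w).ofConv (θ f) := fun w f => by rw [← hval, hglob]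
  obtain ⟨W, hWf, hfW, hW⟩ := Comod.exists_finite_subcomod (k := k) (A := A) (V := A) {θ f}
  letI : HopfRep.Comod k A W := ComodSub.Comod.restr (HopfRep.Comod.regular (k := k) (A := A)) W hW
  haveI := hWf
  obtain ⟨N, hN⟩ := Groth.Agent.S7987.result k A hunip (mh z).ofConv W
  refine ⟨N, ext_pts fun x => ?_⟩
  have hstep : ∀ (n : ℕ), θ ((((Rt z).toLinearMap - 1 : Module.End k (Coord U)) ^ n) f) =
      ((((HopfRep.Comod.act k A W (mh z).ofConv - LinearMap.id : Module.End k W) ^ n) ⟨θ f, hfW (by simp)⟩ : W) : A) := by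
    intro n
    induction n with
    | zero => rfl
    | succ n ih =>
      rw [pow_succ', pow_succ', Module.End.mul_apply, Module.End.mul_apply]
      generalize (((Rt z).toLinearMap - 1 : Module.End k (Coord U)) ^ n) f = g at ih ⊢
      generalize ((HopfRep.Comod.act k A W (mh z).ofConv - LinearMap.id : Module.End k W) ^ n) ⟨θ f, hfW (by simp)⟩ = v at ih ⊢
      refine UnipLib.ext_pts (k := k) fun p => ?_
      obtain ⟨w, hw⟩ := mh.surjective (toConv p)
      have hp : p = (mh w).ofConv := by rw [hw]
      have hc := Comod.map_contract (ComodSub.isComodHom_subtype (HopfRep.Comod.regular (k := k) (A := A)) W hW)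
        (mh z).ofConv.toLinearMap v
      simp only [Submodule.subtype_apply] at hc
      rw [hp, LinearMap.sub_apply, Module.End.one_apply, LinearMap.sub_apply, LinearMap.id_apply,
        AddSubgroupClass.coe_sub, map_sub, ← hθ, map_sub]
      show valHom w (Rt z g) - valHom w g = _
      rw [show ((HopfRep.Comod.act k A W (mh z).ofConv v : W) : A) = HopfRep.Comod.act k A A (mh z).ofConv (v : A) from hc,
        apply_act, ← map_mul, ← ih, ← hθ, ← hθ, val_Rt]
  have hN' : (HopfRep.Comod.act k A W (mh z).ofConv - LinearMap.id : Module.End k W) ^ N = 0 := hN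
  rw [hθ, hstep, hN', LinearMap.zero_apply, ZeroMemClass.coe_zero, map_zero, map_zero]

section Module

variable {M : Type u} [AddCommGroup M] [Module k M] (ρ : VecGrp.GMod U M)

theorem coef_act (φ : Module.Dual k M) (z : Pts U) (v : M) : coef ρ φ (act ρ z v) = Rt z (coef ρ φ v) :=
  ext_pts fun x => by rw [val_coef, val_Rt, val_coef, act_mul]

/-- each rational point acts locally unipotently -/
theorem exists_pow_act (hU : Red.HasNoSubtorus k U) (z : Pts U) (W : Submodule k M) [Module.Finite k W]
    (hW : ∀ w ∈ W, act ρ z w ∈ W) :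
    IsNilpotent ((act ρ z).restrict hW - 1 : Module.End k W) := by
  classical
  let T : Module.End k W := (act ρ z).restrict hW
  let b := Module.finBasis k W
  have hφ : ∀ i, ∃ φ : Module.Dual k M, φ ∘ₗ W.subtype = b.coord i := fun i =>
    LinearMap.exists_extend (b.coord i)
  choose φ hφ using hφ
  have key : ∀ (i : Fin (Module.finrank k W)) (n : ℕ) (w : W),
      coef ρ (φ i) (((T - 1) ^ n) w : W) = (((Rt z).toLinearMap - 1 : Module.End k (Coord U)) ^ n) (coef ρ (φ i) (w : M)) := by
    intro i n w
    induction n with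
    | zero => rfl
    | succ n ih =>
      rw [pow_succ', pow_succ', Module.End.mul_apply, Module.End.mul_apply, ← ih]
      simp only [LinearMap.sub_apply, Module.End.one_apply, AddSubgroupClass.coe_sub, map_sub]
      exact congrArg (· - _) (coef_act ρ (φ i) z _)
  choose N hN using fun p : Fin (Module.finrank k W) × Fin (Module.finrank k W) =>
    exists_pow_Rt hU z (coef ρ (φ p.1) (b p.2 : M))
  refine ⟨Finset.univ.sup N, b.ext fun j => b.ext_elem fun i => ?_⟩
  rw [LinearMap.zero_apply, map_zero, Finsupp.zero_apply, ← b.coord_apply, ← hφ i, LinearMap.comp_apply,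
    Submodule.subtype_apply]
  have h1 := val_coef ρ (φ i) (((T - 1) ^ Finset.univ.sup N) (b j) : W) (1 : Pts U)
  rw [act_one] at h1
  rw [← h1, key, ← Nat.sub_add_cancel (Finset.le_sup (f := N) (Finset.mem_univ (i, j))), pow_add, Module.End.mul_apply,
    hN (i, j), map_zero, map_zero]

theorem exists_span_act (v : M) : ∃ W : Submodule k M, Module.Finite k W ∧ ∀ z : Pts U, act ρ z v ∈ W := by
  classical
  obtain ⟨S, hS⟩ := TensorProduct.exists_finset (ρ.ρ (Coord U) (uPt U) ((1 : Coord U) ⊗ₜ[k] v))
  refine ⟨Submodule.span k ((S.image Prod.snd : Finset M) : Set M),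
    Module.Finite.span_of_finite k (Finset.finite_toSet _), fun z => ?_⟩
  show TensorProduct.lid k M (ρ.ρ k z ((1 : k) ⊗ₜ[k] v)) ∈ _
  rw [ρ_eq, hS, map_sum, map_sum]
  refine Submodule.sum_mem _ fun x hx => ?_
  rw [LinearMap.rTensor_tmul, TensorProduct.lid_tmul]
  exact Submodule.smul_mem _ _ (Submodule.subset_span (Finset.mem_image_of_mem _ hx))

/-- the orbit span of a nonzero vector contains a nonzero fixed vector -/
theorem exists_fixed_span (hU : Red.HasNoSubtorus k U) (v : M) (hv : v ≠ 0) :
    ∃ w ∈ Submodule.span k (Set.range fun z : Pts U => act ρ z v), w ≠ 0 ∧ ∀ z : Pts U, act ρ z w = w := by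
  let S := Submodule.span k (Set.range fun z : Pts U => act ρ z v)
  obtain ⟨W, hW, hmem⟩ := exists_span_act ρ v
  have hle : S ≤ W := Submodule.span_le.2 (by rintro _ ⟨z, rfl⟩; exact hmem z)
  haveI : Module.Finite k S := Module.Finite.of_injective _ (Submodule.inclusion_injective hle)
  have hst : ∀ z, ∀ w ∈ S, act ρ z w ∈ S := fun z w hw => by
    have : S ≤ S.comap (act ρ z) := Submodule.span_le.2 (by
      rintro _ ⟨z', rfl⟩
      exact Submodule.subset_span ⟨z * z', act_mul ρ z z' v⟩)
    exact this hw
  have hvS : v ∈ S := Submodule.subset_span ⟨1, act_one ρ v⟩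
  haveI : Nontrivial S := ⟨⟨⟨v, hvS⟩, 0, fun h => hv (congrArg Subtype.val h)⟩⟩
  let R : Representation k (Pts U) S :=
    { toFun := fun z => (act ρ z).restrict (hst z)
      map_one' := LinearMap.ext fun w => Subtype.ext (act_one ρ w.1)
      map_mul' := fun a b => LinearMap.ext fun w => Subtype.ext (act_mul ρ a b w.1) }
  obtain ⟨w, hw, hfix⟩ := Groth.Agent.S7975.result k (Pts U) S R fun z => exists_pow_act ρ hU z S (hst z)
  exact ⟨w.1, w.2, fun h => hw (Subtype.ext h), fun z => congrArg Subtype.val (hfix z)⟩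

end Module

end Groth.Agent.AGFFix20
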