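import Groth.Agent.AGFFix20.Fixed
import Groth.Agent.AGFObs.Coact
import Groth.Agent.DiagRig.SubDescent
import Groth.Agent.DiagRig.MultBC
import Groth.Agent.DiagRig.BCPts
import Groth.Prelude.Def_Par
import Groth.Agent.GrpScheme.IdComponent
import Groth.Agent.GrpScheme.HomFlat

/-!
Nilpotents and zero divisors of an algebra with group action are seen on the invariants of a maximal unipotent subgroup.
-/

set_option autoImplicit false

universe u

noncomputable section

open CategoryTheory MonoidalCategory CartesianMonoidalCategory MonObj GrpObj AlgebraicGeometry Limits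
open scoped TensorProduct
open Groth.Agent.AGFPoints.Basic Groth.Agent.AGFLang Groth.Agent.AGFObs

namespace Groth.Agent.AGFFix20

variable {k : Type u} [Field k] [IsAlgClosed k]

/-- restriction of an action along a homomorphism -/
def pullMod {G U : Over (Spec (CommRingCat.of k))} [GrpObj G] [GrpObj U] {M : Type u} [AddCommGroup M] [Module k M]
    (ρ : VecGrp.GMod G M) (i : U ⟶ G) [IsMonHom i] : VecGrp.GMod U M where
  ρ B _ _ :=
    { toFun := fun g => ρ.ρ B (g ≫ i)
      map_one' := by rw [MonObj.one_comp, map_one]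
      map_mul' := fun a b => by rw [MonObj.mul_comp, map_mul] }
  naturality φ g x := by
    show _ = ρ.ρ _ ((VecGrp.ptMap φ ≫ g) ≫ i) _
    rw [Category.assoc]
    exact ρ.naturality φ (g ≫ i) x

/-- the geometric point over an algebraically closed field is an isomorphism -/
theorem isIso_geomPt (s : ↥(Spec (CommRingCat.of k))) : IsIso (Red.geomPt s) := by
  let κ := (Spec (CommRingCat.of k)).residueField s
  have hci : IsClosedImmersion ((Spec (CommRingCat.of k)).fromSpecResidueField s) :=
    IsClosedImmersion.of_isPreimmersion _ (by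
      rw [Scheme.range_fromSpecResidueField]
      convert isClosed_univ
      exact Set.eq_univ_of_forall fun y => Subsingleton.elim (α := PrimeSpectrum k) y s)
  obtain ⟨ψ, hψ⟩ : ∃ ψ : CommRingCat.of k ⟶ κ, Spec.map ψ = (Spec (CommRingCat.of k)).fromSpecResidueField s :=
    ⟨Spec.preimage _, Spec.map_preimage _⟩
  have hψb : Function.Bijective ψ.hom := ⟨ψ.hom.injective,
    by
      have : IsClosedImmersion (Spec.map ψ) := hψ ▸ hci
      have h2 := (IsClosedImmersion.isAffine_surjective_of_isAffine (Spec.map ψ)).2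
      intro y
      obtain ⟨x, hx⟩ := h2 ((Scheme.ΓSpecIso κ).inv y)
      refine ⟨(Scheme.ΓSpecIso _).hom x, ?_⟩
      have e := congr($(Scheme.ΓSpecIso_naturality ψ) x)
      simp only [CommRingCat.hom_comp, RingHom.comp_apply] at e
      rw [← e, hx]
      simp⟩
  have : IsAlgClosed κ := IsAlgClosed.of_ringEquiv _ _ (RingEquiv.ofBijective ψ.hom hψb)
  have ha : Function.Bijective (algebraMap κ (AlgebraicClosure κ)) := IsAlgClosed.algebraMap_bijective_of_isIntegral
  have h1 : IsIso (CommRingCat.ofHom (algebraMap κ (AlgebraicClosure κ))) :=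
    (ConcreteCategory.isIso_iff_bijective _).2 ha
  have h2 : IsIso ψ := (ConcreteCategory.isIso_iff_bijective _).2 hψb
  show IsIso (_ ≫ (Spec (CommRingCat.of k)).fromSpecResidueField s)
  rw [← hψ]
  infer_instance

open Groth.Agent.DiagRig in
set_option backward.isDefEq.respectTransparency.types false in
/-- tori stay tori after base change -/
theorem isTorus_bc {S T : Scheme.{u}} {H : Over S} [GrpObj H] (t : T ⟶ S) (hH : Red.IsTorus H) :
    Red.IsTorus (Red.bc t H) := by
  obtain ⟨S'', f, hf, hsurj, hcov, hloc⟩ := hH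
  refine ⟨pullback f t, pullback.snd f t, inferInstance, inferInstance, cov_pullback f t hcov, fun z => ?_⟩
  obtain ⟨U, hU, r, ⟨e⟩⟩ := hloc ((pullback.fst f t).base z)
  let U' := pullback.fst f t ⁻¹ᵁ U
  let a : (U' : Scheme.{u}) ⟶ U := pullback.fst f t ∣_ U
  let b : (U' : Scheme.{u}) ⟶ T := U'.ι ≫ pullback.snd f t
  have h : a ≫ U.ι ≫ f = b ≫ t := by
    rw [← Category.assoc, morphismRestrict_ι, Category.assoc, Category.assoc, pullback.condition]
  let d : (U : Scheme.{u}) ⟶ _ := Limits.IsTerminal.from specULiftZIsTerminal _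
  exact ⟨U', hU, r, ⟨bcGrpIso t b (b ≫ t) rfl H ≪≫ (bcGrpIso (U.ι ≫ f) a (b ≫ t) h H).symm ≪≫
    bcGrpMap a e ≪≫ bcGrpIso d a _ (specULiftZIsTerminal.hom_ext _ _)
      (Red.diag (ULift.{u} ℤ) (Fin r → ℤ))⟩⟩

/-- having no subtorus descends from the geometric fibre -/
theorem hasNoSubtorus_of_geom {U : Over (Spec (CommRingCat.of k))} [GrpObj U] (s : ↥(Spec (CommRingCat.of k)))
    (h : Red.HasNoSubtorus (AlgebraicClosure ((Spec (CommRingCat.of k)).residueField s)) (Red.geomFibre s U)) :
    Red.HasNoSubtorus k U := by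
  intro T _ j _ _ hT
  haveI := isIso_geomPt (k := k) s
  have := DiagRig.isMonHom_bcMap (Red.geomPt s) j
  have hi : IsIso (Red.bc (Red.geomPt s) T).hom :=
    h (Red.bc (Red.geomPt s) T) ((Over.pullback (Red.geomPt s)).map j) (isTorus_bc _ hT)
  haveI : IsIso (pullback.snd T.hom (Red.geomPt s)) := hi
  have e : T.hom = inv (pullback.fst T.hom (Red.geomPt s)) ≫ pullback.snd T.hom (Red.geomPt s) ≫ Red.geomPt s := by
    rw [← pullback.condition, IsIso.inv_hom_id_assoc]
  show IsIso T.hom
  rw [e]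
  infer_instance

variable {G Bo U : Over (Spec (CommRingCat.of k))} [GrpObj G] [GrpObj Bo] [GrpObj U]

theorem facts (hG : Red.IsReductiveOver k G) {iB : Bo ⟶ G} (hB : Red.IsBorelOver k iB) {u : U ⟶ Bo}
    (hU : Par.IsUnipotentRadical u) :
    IsAffine U.left ∧ Smooth U.hom ∧ ConnectedSpace U.left ∧ IsMonHom (u ≫ iB) ∧ Red.HasNoSubtorus k U := by
  haveI := hG.1
  haveI := hB.1
  haveI := hB.2.1
  haveI := hU.1
  haveI := hU.2.1
  haveI : IsAffine Bo.left := isAffine_of_isAffineHom iB.left
  let s : ↥(Spec (CommRingCat.of k)) := IsLocalRing.closedPoint k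
  obtain ⟨hc, hs⟩ := hU.2.2.2.2.2.1 s
  haveI := hc
  refine ⟨isAffine_of_isAffineHom u.left, hU.2.2.2.1, ?_, inferInstance, hasNoSubtorus_of_geom s hs⟩
  haveI : Surjective (Red.geomPt s) := ⟨fun y => ⟨IsLocalRing.closedPoint _, Subsingleton.elim (α := PrimeSpectrum k) _ _⟩⟩
  haveI : Surjective (pullback.fst U.hom (Red.geomPt s)) := ⟨fun x => by
    have h : x ∈ Set.range (pullback.fst U.hom (Red.geomPt s)) := by
      rw [Scheme.Pullback.range_fst]
      exact (Red.geomPt s).surjective _
    exact h⟩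
  haveI : ConnectedSpace ↥(pullback U.hom (Red.geomPt s)) := hc
  exact Function.Surjective.connectedSpace (pullback.fst U.hom (Red.geomPt s)).surjective
    (pullback.fst U.hom (Red.geomPt s)).continuous

theorem isDomain_coord [IsAffine U.left] [Smooth U.hom] [ConnectedSpace U.left] : IsDomain (Coord U) := by
  haveI : AlgebraicGeometry.IsReduced U.left := GrpScheme.HomFlat.isReduced_of_smooth U.hom
  haveI : LocallyOfFiniteType U.hom := inferInstance
  haveI : IrreducibleSpace U.left := by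
    have h := GrpScheme.IdComponent.connectedComponent_eq U
    rw [PreconnectedSpace.connectedComponent_eq_univ] at h
    exact @IrreducibleSpace.mk _ _ ⟨(h ▸ isIrreducible_irreducibleComponent).2⟩
      ⟨GrpScheme.IdComponent.e₀ U⟩
  haveI : IsIntegral U.left := isIntegral_of_irreducibleSpace_of_isReduced U.left
  haveI : Nonempty ((⊤ : U.left.Opens) : U.left.Opens) := ⟨⟨GrpScheme.IdComponent.e₀ U, trivial⟩⟩
  exact inferInstanceAs (IsDomain Γ(U.left, ⊤))

variable [IsAffine G.left] [Smooth G.hom] {A : Type u} [CommRing A] [Algebra k A] (ρ : VecGrp.GMod G A) (hρ : ρ.IsMult)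

include hρ in
theorem act_mulA (g : Pts G) (a b : A) : act ρ g (a * b) = act ρ g a * act ρ g b := by
  rw [← cAct_coactOf ρ hρ, ← cAct_coactOf ρ hρ, ← cAct_coactOf ρ hρ, map_mul]

variable [IsAffine U.left] [Smooth U.hom] [ConnectedSpace U.left] (i : U ⟶ G) [IsMonHom i]

omit [IsAffine G.left] [Smooth G.hom] [IsAlgClosed k] [IsAffine U.left] [Smooth U.hom] [ConnectedSpace U.left] in
theorem act_pull (z : Pts U) (a : A) : act (pullMod ρ i) z a = act ρ (z ≫ i) a := rfl

include hρ in
/-- nilpotents are seen on invariants -/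
theorem exists_fixed_nilpotent (hU : Red.HasNoSubtorus k U) (a : A) (ha : a ≠ 0) (hn : IsNilpotent a) :
    ∃ w ∈ ρ.fixedSubalgebra hρ i, w ≠ 0 ∧ IsNilpotent w := by
  obtain ⟨w, hw, hw0, hfix⟩ := exists_fixed_span (pullMod ρ i) hU a ha
  refine ⟨w, (mem_fixedSubalgebra_iff ρ hρ i w).2 hfix, hw0, ?_⟩
  have hle : Submodule.span k (Set.range fun z : Pts U => act (pullMod ρ i) z a) ≤
      (nilradical A).restrictScalars k := Submodule.span_le.2 (by
    rintro _ ⟨z, rfl⟩
    show IsNilpotent (act ρ (z ≫ i) a)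
    rw [← cAct_coactOf ρ hρ]
    exact hn.map (cAct (coactOf ρ hρ) (z ≫ i)))
  exact hle hw

include hρ in
theorem isReduced_iff_fixed (hU : Red.HasNoSubtorus k U) :
    _root_.IsReduced A ↔ _root_.IsReduced ↥(ρ.fixedSubalgebra hρ i) := by
  constructor
  · intro h
    exact isReduced_of_injective (ρ.fixedSubalgebra hρ i).val.toRingHom Subtype.val_injective
  · intro h
    refine ⟨fun a ha => by_contra fun h0 => ?_⟩
    obtain ⟨w, hwS, hw0, hwn⟩ := exists_fixed_nilpotent ρ hρ i hU a h0 ha
    have : IsNilpotent (⟨w, hwS⟩ : ↥(ρ.fixedSubalgebra hρ i)) := by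
      obtain ⟨n, hn⟩ := hwn
      exact ⟨n, Subtype.ext (by simpa using hn)⟩
    exact hw0 (congrArg Subtype.val this.eq_zero)

include hρ in
theorem zeroDivisor_iff_fixed (hU : Red.HasNoSubtorus k U) :
    (∃ a b : A, a ≠ 0 ∧ b ≠ 0 ∧ a * b = 0) ↔
      ∃ a b : ↥(ρ.fixedSubalgebra hρ i), a ≠ 0 ∧ b ≠ 0 ∧ a * b = 0 := by
  refine ⟨?_, fun ⟨a, b, ha, hb, h⟩ => ⟨a.1, b.1, fun h0 => ha (Subtype.ext h0), fun h0 => hb (Subtype.ext h0),
    congrArg Subtype.val h⟩⟩
  rintro ⟨a, b, ha, hb, hab⟩
  by_cases hred : _root_.IsReduced A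
  swap
  · rw [isReduced_iff_fixed ρ hρ i hU] at hred
    obtain ⟨x, hx, hx0⟩ : ∃ x : ↥(ρ.fixedSubalgebra hρ i), IsNilpotent x ∧ x ≠ 0 := by
      by_contra hne
      exact hred ⟨fun x hx => by_contra fun h0 => hne ⟨x, hx, h0⟩⟩
    obtain ⟨y, hy0, hyy⟩ : ∃ y, y ≠ 0 ∧ y * y = (0 : ↥(ρ.fixedSubalgebra hρ i)) := by
      obtain ⟨n, hn⟩ := hx
      induction n generalizing x with
      | zero => exact absurd (by rw [← _root_.mul_one x, ← pow_zero x, hn, mul_zero]) hx0
      | succ n ih =>
        rcases Nat.eq_zero_or_pos n with h0 | hpos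
        · subst h0
          exact absurd (by simpa using hn) hx0
        by_cases hxn : x ^ n = 0
        · exact ih x hx0 hxn
        refine ⟨x ^ n, hxn, ?_⟩
        rw [← pow_add, show n + n = (n + 1) + (n - 1) by omega, pow_add, hn, zero_mul]
    exact ⟨y, y, hy0, hy0, hyy⟩
  have horb : ∀ z w : Pts U, act ρ (z ≫ i) a * act ρ (w ≫ i) b = 0 := by
    intro z₀ w₀
    refine IsReduced.eq_zero _ (mem_nilradical.1 ?_)
    rw [nilradical_eq_sInf, Ideal.mem_sInf]
    intro P hP
    by_contra hmem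
    have hπ : ∀ x : A, x ∉ P → ∃ φ : Module.Dual k A, φ x ≠ 0 ∧ ∀ y ∈ P, φ y = 0 := by
      intro x hx
      let W : Submodule k A := P.restrictScalars k
      haveI : Module.Free k (A ⧸ W) := @Module.Free.of_divisionRing k (A ⧸ W) _ _ _
      obtain ⟨φ, hφ, hmap⟩ := Submodule.exists_dual_map_eq_bot_of_notMem (p := W) (x := x) hx Module.Projective.of_free
      refine ⟨φ, hφ, fun y hy => ?_⟩
      have : φ y ∈ W.map φ := Submodule.mem_map_of_mem (show y ∈ W from hy)
      rwa [hmap, Submodule.mem_bot] at this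
    obtain ⟨φ, hφ, hφP⟩ := hπ _ fun h => hmem (P.mul_mem_right _ h)
    obtain ⟨χ, hχ, hχP⟩ := hπ _ fun h => hmem (P.mul_mem_left _ h)
    haveI := isDomain_coord (U := U)
    let f := coef (pullMod ρ i) φ a
    let g := coef (pullMod ρ i) χ b
    have hf : f ≠ 0 := fun h => hφ (by
      have := val_coef (pullMod ρ i) φ a z₀
      rw [show coef (pullMod ρ i) φ a = 0 from h, map_zero] at this
      exact this.symm)
    have hg : g ≠ 0 := fun h => hχ (by
      have := val_coef (pullMod ρ i) χ b w₀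
      rw [show coef (pullMod ρ i) χ b = 0 from h, map_zero] at this
      exact this.symm)
    refine mul_ne_zero hf hg (ext_pts fun t => ?_)
    rw [map_zero, map_mul, val_coef, val_coef, act_pull, act_pull]
    have hz : act ρ (t ≫ i) a * act ρ (t ≫ i) b = 0 := by rw [← act_mulA ρ hρ, hab, map_zero]
    rcases (Ideal.IsPrime.mem_or_mem hP (hz ▸ P.zero_mem : act ρ (t ≫ i) a * act ρ (t ≫ i) b ∈ P)) with h | h
    · rw [hφP _ h, zero_mul]
    · rw [hχP _ h, mul_zero]
  obtain ⟨a', ha', ha0, hafix⟩ := exists_fixed_span (pullMod ρ i) hU a ha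
  obtain ⟨b', hb', hb0, hbfix⟩ := exists_fixed_span (pullMod ρ i) hU b hb
  have h1 : ∀ x ∈ Submodule.span k (Set.range fun z : Pts U => act (pullMod ρ i) z a),
      ∀ y ∈ Submodule.span k (Set.range fun z : Pts U => act (pullMod ρ i) z b), x * y = 0 := by
    intro x hx y hy
    induction hx using Submodule.span_induction with
    | mem x hx =>
      obtain ⟨z, rfl⟩ := hx
      induction hy using Submodule.span_induction with
      | mem y hy => obtain ⟨w, rfl⟩ := hy; exact horb z w
      | zero => rw [mul_zero]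
      | add p q _ _ hp hq => rw [mul_add, hp, hq, add_zero]
      | smul c p _ hp => rw [mul_smul_comm, hp, smul_zero]
    | zero => rw [zero_mul]
    | add p q _ _ hp hq => rw [add_mul, hp, hq, add_zero]
    | smul c p _ hp => rw [smul_mul_assoc, hp, smul_zero]
  exact ⟨⟨a', (mem_fixedSubalgebra_iff ρ hρ i a').2 hafix⟩, ⟨b', (mem_fixedSubalgebra_iff ρ hρ i b').2 hbfix⟩,
    fun h => ha0 (congrArg Subtype.val h), fun h => hb0 (congrArg Subtype.val h), Subtype.ext (h1 a' ha' b' hb')⟩

end Groth.Agent.AGFFix20
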